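import Groth.Agent.Lib.CohDelta.BC.Flat
import Groth.Agent.Lib.SymAlg.PE.Local

/-!
# Sections after flat base change are spanned by pulled back sections
-/

noncomputable section

set_option autoImplicit false
set_option backward.isDefEq.respectTransparency false
set_option maxHeartbeats 1000000
universe u

open CategoryTheory CategoryTheory.Limits AlgebraicGeometry Opposite
open scoped TensorProduct

namespace Groth.Agent.Lib.VADesc65

open Groth.Agent.Lib TensorMod TensorMod.Dual TensorMod.Pullback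

variable {X Y X' Y' : Scheme.{u}}

theorem gamma_span {f : X ⟶ Y} {g : Y' ⟶ Y} {g' : X' ⟶ X} {f' : X' ⟶ Y'}
    (hsq : IsPullback g' f' f g) [IsAffine Y] [IsAffine Y'] [QuasiCompact f] [QuasiSeparated f] [Flat g]
    (L : X.Modules) [L.IsQuasicoherent]
    (P : Γ((pb g').obj L, (⊤ : X'.Opens)) → Prop) (h0 : P 0) (hadd : ∀ a b, P a → P b → P (a + b))
    (hsmul : ∀ (b : Γ(Y', (⊤ : Y'.Opens))) (m : Γ(L, (⊤ : X.Opens))),
      P ((show Γ(X', (⊤ : X'.Opens)) from f'.app ⊤ b) •
        (show Γ((pb g').obj L, (⊤ : X'.Opens)) from unitSec g' L m)))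
    (n : Γ((pb g').obj L, (⊤ : X'.Opens))) : P n := by
  have : ((Scheme.Modules.pushforward f).obj L).IsQuasicoherent :=
    QCoh.Pushforward.isQCoh_pushforward f (M := L)
  have hiso : IsIso (CohBC.bc0 f g f' g' hsq.w L) := CohDelta.BC.Flat.isIso_bc0 f g g' f' hsq L
  let φ := CohBC.bc0 f g f' g' hsq.w L
  have e : (⊤ : Y'.Opens) ≤ g ⁻¹ᵁ (⊤ : Y.Opens) := le_rfl
  have hb : Function.Bijective (φ.app ⊤) := ConcreteCategory.bijective_of_isIso (φ.app ⊤)
  letI : Algebra Γ(Y, (⊤ : Y.Opens)) Γ(Y', (⊤ : Y'.Opens)) := (g.appLE ⊤ ⊤ e).hom.toAlgebra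
  obtain ⟨z₀, hz₀⟩ := hb.2 n
  obtain ⟨z, rfl⟩ := (_root_.ZarCoh.FlatBC.PullbackSections.bijective_pbTensor g
    ((Scheme.Modules.pushforward f).obj L) (isAffineOpen_top Y) (isAffineOpen_top Y') e).2 z₀
  subst hz₀
  let F := fun z => φ.app ⊤
    (_root_.ZarCoh.FlatBC.PullbackSections.pbTensor g ((Scheme.Modules.pushforward f).obj L) e z)
  change P (F z)
  induction z using TensorProduct.induction_on with
  | zero =>
    have : F 0 = 0 := by simp only [F]; rw [map_zero]; exact map_zero _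
    rw [this]
    exact h0
  | tmul b m =>
    have hbm : F (b ⊗ₜ m) = (show Γ(X', (⊤ : X'.Opens)) from f'.app ⊤ b) •
        (show Γ((pb g').obj L, (⊤ : X'.Opens)) from unitSec g' L (show Γ(L, (⊤ : X.Opens)) from m)) := by
      simp only [F]
      refine (congrArg (φ.app ⊤) (_root_.ZarCoh.FlatBC.PullbackSections.pbTensor_tmul g _ e b m)).trans ?_
      refine (φ.app_smul b _).trans ?_
      refine congrArg (fun k : Γ((pb g').obj L, (⊤ : X'.Opens)) => (show Γ(X', (⊤ : X'.Opens)) from f'.app ⊤ b) • k) ?_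
      refine (CohDelta.BC.Transpose.transpose_pbRes g (CohBC.bc0Adj f g f' g' hsq.w L) e m).trans ?_
      unfold CohBC.bc0Adj
      simp only [Scheme.Modules.Hom.comp_app, ConcreteCategory.comp_apply,
        Scheme.Modules.pushforwardComp_hom_app_app, Scheme.Modules.pushforwardComp_inv_app_app,
        Scheme.Modules.pushforwardCongr_hom_app_app]
      exact rs_rs ((pb g').obj L) _ _ (unitSec g' L (show Γ(L, (⊤ : X.Opens)) from m)) |>.trans (rs_self _ _ _)
    rw [hbm]
    exact hsmul b m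
  | add a b ha hb' =>
    have : F (a + b) = F a + F b := by simp only [F]; rw [map_add]; exact map_add _ _ _
    rw [this]
    exact hadd _ _ ha hb'

end Groth.Agent.Lib.VADesc65
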