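import Groth.Agent.Lib.VADesc65.Immersion
import Groth.Agent.Lib.VADesc65.Span
import Groth.Agent.Lib.AlgSpFpqc.ImmersionDescent

/-!
# Descent of the criterion along a faithfully flat morphism of affine schemes
-/

noncomputable section

set_option autoImplicit false
set_option backward.isDefEq.respectTransparency false
set_option maxHeartbeats 1000000
universe u

open CategoryTheory CategoryTheory.Limits AlgebraicGeometry Opposite TopologicalSpace

namespace Groth.Agent.Lib.VADesc65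

open Groth.Agent.Lib TensorMod TensorMod.Dual TensorMod.Gen TensorMod.HomGlue TensorMod.Pullback Ample.GenLocus SymAlg.PE

variable {X Y X' Y' : Scheme.{u}}

theorem crit_of_faithfullyFlat {f : X ⟶ Y} {g : Y' ⟶ Y} {g' : X' ⟶ X} {f' : X' ⟶ Y'}
    (hsq : IsPullback g' f' f g) [IsAffine Y] [IsAffine Y'] [QuasiCompact f] [QuasiSeparated f]
    [Flat g] [Surjective g] {L : X.Modules} (hL : PicF.IsInvertible L)
    (h : RelProj.IsRelVeryAmple f' ((pb g').obj L)) :
    Crit (𝟙 ((Scheme.Modules.pushforward f).obj L)) := by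
  obtain ⟨E', hE', v', hgen, hI⟩ := exists_data h
  have : L.IsQuasicoherent := QCohInv.isQCoh_of_isInvertible hL
  have hg' : Surjective g' :=
    MorphismProperty.of_isPullback (P := @Surjective) hsq.flip inferInstance
  have : QuasiCompact f' := MorphismProperty.of_isPullback (P := @QuasiCompact) hsq inferInstance
  let L' := (pb g').obj L
  have hL' : PicF.IsInvertible L' := PicLoc.isInvertible_pullback g' hL
  let up' : Γ(L, (⊤ : X.Opens)) → Γ(L', (⊤ : X'.Opens)) := fun m => unitSec g' L m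
  let ev' : Γ(E', (⊤ : Y'.Opens)) → Γ(L', (⊤ : X'.Opens)) := fun e => ev v' ⊤ e
  have hup : ∀ m, gloc (up' m) = g' ⁻¹ᵁ gloc m := fun m => gloc_unitSec g' hL m
  have hone : ∀ {n : Γ(L', (⊤ : X'.Opens))}, X'.basicOpen (ratio n n) = gloc n := fun {n} => by
    rw [gloc_ratio, inf_idem]
  have hexists : ∀ n : Γ(L', (⊤ : X'.Opens)), ∀ x' ∈ gloc n, ∃ m, x' ∈ gloc (up' m) := by
    refine gamma_span hsq L (fun n => ∀ x' ∈ gloc n, ∃ m, x' ∈ gloc (up' m)) ?_ ?_ ?_
    · intro x' hx'
      rw [← hone, show ratio (0 : Γ(L', (⊤ : X'.Opens))) 0 = 0 by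
        have h0 := ratio_add (0 : Γ(L', (⊤ : X'.Opens))) 0 0
        rw [add_zero] at h0
        exact left_eq_add.1 h0, Scheme.basicOpen_zero] at hx'
      exact hx'.elim
    · intro a b ha hb x' hx'
      have h1 := ratio_add (a + b) a b
      rw [← hone, h1] at hx'
      rcases Scheme.basicOpen_add_le _ _ _ hx' with h2 | h2 <;> rw [gloc_ratio] at h2
      · exact ha x' h2.2
      · exact hb x' h2.2
    · intro b m x' hx'
      let n := (show Γ(X', (⊤ : X'.Opens)) from f'.app ⊤ b) • up' m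
      change x' ∈ gloc n at hx'
      rw [← hone, show ratio n n = _ from ratio_smul n (up' m) _, Scheme.basicOpen_mul, gloc_ratio] at hx'
      exact ⟨m, hx'.2.2⟩
  intro x
  obtain ⟨x', rfl⟩ := g'.surjective x
  obtain ⟨e₀, he₀⟩ := hgen.mem_affine hE' (isAffineOpen_top Y') (x := x') trivial
  obtain ⟨m, hm⟩ := hexists (ev' e₀) x' he₀
  let v := 𝟙 ((Scheme.Modules.pushforward f).obj L)
  refine ⟨⊤, isAffineOpen_top Y, m, show g' x' ∈ gloc m by rw [hup] at hm; exact hm, ?_⟩
  let T := gloc m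
  let K : Subring Γ(X, T) := rats v ⊤ m
  let ι := CommRingCat.ofHom (R := K) K.subtype
  let h₀ := toSpec T ι
  change IsImmersion h₀
  -- functions from the base lie in `K`
  have hbase : ∀ r : Γ(Y, (⊤ : Y.Opens)), f.appLE ⊤ T le_top r ∈ K := fun r => by
    have h1 : ratio (W := (⊤ : X.Opens)) m ((show Γ(X, (⊤ : X.Opens)) from f.app ⊤ r) • m) = f.appLE ⊤ T le_top r := by
      rw [ratio_smul, ratio_self, mul_one]
      rfl
    rw [← h1]
    exact ratio_mem_rats v ⊤ m ((show Γ(Y, (⊤ : Y.Opens)) from r) • (show Γ((Scheme.Modules.pushforward f).obj L, (⊤ : Y.Opens)) from m))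
  let κ : Γ(Y, (⊤ : Y.Opens)) ⟶ CommRingCat.of K :=
    CommRingCat.ofHom ((f.appLE ⊤ T le_top).hom.codRestrict K hbase)
  let ρ : Spec (CommRingCat.of K) ⟶ Y := Spec.map κ ≫ Y.isoSpec.inv
  have hρ : h₀ ≫ ρ = T.ι ≫ f := by
    rw [← cancel_mono Y.isoSpec.hom]
    simp only [h₀, ρ, Category.assoc, Iso.inv_hom_id, Category.comp_id]
    rw [toSpec_comp, show κ ≫ ι = f.appLE ⊤ T le_top from rfl]
    exact toSpec_appLE_eq f T le_top
  -- base change
  let T'' := g' ⁻¹ᵁ T
  have hw : ((g' ∣_ T) ≫ h₀) ≫ ρ = (T''.ι ≫ f') ≫ g := by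
    rw [Category.assoc, hρ, morphismRestrict_ι_assoc, Category.assoc, hsq.w]
  let h₁ : (T'' : Scheme.{u}) ⟶ pullback ρ g := pullback.lift ((g' ∣_ T) ≫ h₀) (T''.ι ≫ f') hw
  have hfst : h₁ ≫ pullback.fst ρ g = (g' ∣_ T) ≫ h₀ := pullback.lift_fst _ _ _
  have hsnd : h₁ ≫ pullback.snd ρ g = T''.ι ≫ f' := pullback.lift_snd _ _ _
  have hbig : IsPullback (g' ∣_ T) (T''.ι ≫ f') (T.ι ≫ f) g :=
    (isPullback_morphismRestrict g' T).paste_vert hsq
  have hsq₀ : IsPullback h₁ (g' ∣_ T) (pullback.fst ρ g) h₀ :=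
    IsPullback.of_right (h₁₁ := h₁) (by rw [hsnd, hρ]; exact hbig.flip) hfst
      (IsPullback.of_hasPullback ρ g).flip
  -- the immersion upstairs
  have hT'' : T'' = gloc (up' m) := (hup m).symm
  let φ : Γ(pullback ρ g, ⊤) ⟶ Γ(X', T'') := h₁.appTop ≫ T''.topIso.hom
  let R := φ.hom.range
  let P' := pullback ρ g
  have hφ : toSpec T'' φ = h₁ ≫ P'.isoSpec.hom := toSpec_appTop_eq h₁
  have hK : ∀ k : K, g'.appLE T T'' le_rfl (k : Γ(X, T)) ∈ R := by
    let θ := Spec.preimage (P'.isoSpec.inv ≫ pullback.fst ρ g)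
    have h2 : θ ≫ φ = ι ≫ g'.appLE T T'' le_rfl := by
      apply toSpec_injective
      rw [resLE_toSpec, ← toSpec_comp, hφ, Spec.map_preimage, Category.assoc, Iso.hom_inv_id_assoc, hfst,
        Scheme.Hom.resLE_eq_morphismRestrict]
    exact fun k => ⟨θ k, ConcreteCategory.congr_hom h2 k⟩
  have hB : ∀ b : Γ(Y', (⊤ : Y'.Opens)), f'.appLE ⊤ T'' le_top b ∈ R := by
    let θ := Spec.preimage (P'.isoSpec.inv ≫ pullback.snd ρ g ≫ Y'.isoSpec.hom)
    have h2 : θ ≫ φ = f'.appLE ⊤ T'' le_top := by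
      apply toSpec_injective
      rw [toSpec_appLE_eq, ← toSpec_comp, hφ, Spec.map_preimage, Category.assoc, Iso.hom_inv_id_assoc,
        reassoc_of% hsnd]
    exact fun b => ⟨θ b, ConcreteCategory.congr_hom h2 b⟩
  have hratio : ∀ n : Γ(L', (⊤ : X'.Opens)), rf hT''.le (ratio (up' m) n) ∈ R := by
    refine gamma_span hsq L (fun n => rf hT''.le (ratio (up' m) n) ∈ R) ?_ ?_ ?_
    · have h0 := ratio_add (up' m) (0 : Γ(L', (⊤ : X'.Opens))) 0
      rw [add_zero] at h0
      rw [left_eq_add.1 h0]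
      exact (congrArg (· ∈ R) (map_zero (X'.presheaf.map (homOfLE hT''.le).op).hom)).mpr R.zero_mem
    · intro a b ha hb
      rw [ratio_add]
      exact (congrArg (· ∈ R) (map_add (X'.presheaf.map (homOfLE hT''.le).op).hom _ _)).mpr (R.add_mem ha hb)
    · intro b m₁
      change rf hT''.le (ratio (up' m) ((show Γ(X', (⊤ : X'.Opens)) from f'.app ⊤ b) • up' m₁)) ∈ R
      have h3 : rf hT''.le (ratio (up' m) (up' m₁)) = g'.appLE T T'' le_rfl (ratio (W := (⊤ : X.Opens)) m m₁) := by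
        refine ratio_unique_on hT''.le ?_
        have h4 := congrArg (fun z => unitSec g' L z) (ratio_spec (W := (⊤ : X.Opens)) m m₁)
        simp only [unitSec_smul, ← unitSec_rs g'] at h4
        rw [show g'.appLE T T'' le_rfl (ratio (W := (⊤ : X.Opens)) m m₁) = g'.app T (ratio (W := (⊤ : X.Opens)) m m₁) by
          rw [Scheme.Hom.app_eq_appLE]]
        exact h4
      rw [ratio_smul, show rf hT''.le (rf (gloc_le (up' m)) (show Γ(X', (⊤ : X'.Opens)) from f'.app ⊤ b) *
        ratio (up' m) (up' m₁)) = f'.appLE ⊤ T'' le_top b * g'.appLE T T'' le_rfl (ratio (W := (⊤ : X.Opens)) m m₁) by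
          rw [← h3]
          refine (map_mul (X'.presheaf.map (homOfLE hT''.le).op).hom _ _).trans ?_
          refine congrArg (· * _) ((rf_rf _ _ _).trans ?_)
          rfl]
      exact R.mul_mem (hB b) (hK ⟨_, ratio_mem_rats v ⊤ m m₁⟩)
  have h1imm : IsImmersion h₁ := by
    have : IsImmersion (toSpec T'' φ) := isImmersion_of_locus v' (fun e => hI ⊤ (isAffineOpen_top Y') e)
      (up' m) hT'' (fun y _ => hgen.mem_affine hE' (isAffineOpen_top Y') trivial) φ
      fun e => hratio (ev' e)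
    rw [hφ] at this
    exact IsImmersion.of_comp h₁ P'.isoSpec.hom
  have : CompactSpace X' := QuasiCompact.compactSpace_of_compactSpace f'
  have : CompactSpace (T'' : Scheme.{u}) := by
    refine isCompact_iff_compactSpace.1 ?_
    rw [hT'']
    exact isCompact_gloc hL' isCompact_univ (up' m)
  have h1qc : QuasiCompact h₁ := inferInstance
  exact (MorphismProperty.of_isPullback_of_descendsAlong
    (P := (@IsImmersion ⊓ @QuasiCompact : MorphismProperty Scheme.{u}))
    (Q := (@Surjective ⊓ @Flat ⊓ @QuasiCompact : MorphismProperty Scheme.{u}))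
    hsq₀ ⟨⟨inferInstance, inferInstance⟩, inferInstance⟩ ⟨h1imm, h1qc⟩).1

end Groth.Agent.Lib.VADesc65
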