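import Groth.Agent.Lib.SymAlg.PE.PnImm

/-!
# A locus immerses if it does so on the pieces where other sections generate
-/

noncomputable section

set_option autoImplicit false
set_option backward.isDefEq.respectTransparency false
universe u

open CategoryTheory CategoryTheory.Limits AlgebraicGeometry Opposite TopologicalSpace

namespace Groth.Agent.Lib.VADesc65

open Groth.Agent.Lib TensorMod TensorMod.Dual TensorMod.Gen TensorMod.HomGlue SymAlg.PE

variable {X S : Scheme.{u}} {q : X ⟶ S} {L : X.Modules}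

theorem toSpec_injective {T : X.Opens} {A : CommRingCat.{u}} {φ ψ : A ⟶ Γ(X, T)}
    (h : toSpec T φ = toSpec T ψ) : φ = ψ := by
  have h1 := congrArg Scheme.Hom.appTop h
  rw [toSpec_appTop, toSpec_appTop, cancel_epi, cancel_mono] at h1
  exact h1

/-- A morphism into an affine scheme is given by functions. -/
theorem toSpec_appTop_eq {T : X.Opens} {P : Scheme.{u}} [IsAffine P] (h : (T : Scheme.{u}) ⟶ P) :
    toSpec T (h.appTop ≫ T.topIso.hom) = h ≫ P.isoSpec.hom := by
  rw [toSpec, Scheme.Opens.toSpecΓ, Category.assoc, ← Spec.map_comp, Category.assoc, Iso.hom_inv_id,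
    Category.comp_id]
  exact (Scheme.toSpecΓ_naturality h).symm

theorem toSpec_appLE_eq {Y : Scheme.{u}} [IsAffine Y] (f : X ⟶ Y) (T : X.Opens)
    (h : T ≤ f ⁻¹ᵁ (⊤ : Y.Opens)) : toSpec T (f.appLE ⊤ T h) = T.ι ≫ f ≫ Y.isoSpec.hom := by
  rw [← Category.assoc, ← toSpec_appTop_eq]
  congr 1
  rw [Scheme.Hom.comp_appTop, Scheme.Opens.ι_appTop]
  simp [Scheme.Hom.app_eq_appLE, Scheme.Hom.appLE_map]

theorem isImmersion_of_locus {U : S.Opens} {E : S.Modules} (v : E ⟶ (Scheme.Modules.pushforward q).obj L)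
    (hI : ∀ e : Γ(E, U), ImmOn (gloc (ev v U e)) (rats v U e))
    {T : X.Opens} (n : Γ(L, q ⁻¹ᵁ U)) (hTn : T = gloc n)
    (hcov : ∀ x ∈ T, ∃ e : Γ(E, U), x ∈ gloc (ev v U e))
    {A : CommRingCat.{u}} (φ : A ⟶ Γ(X, T))
    (hr : ∀ e : Γ(E, U), ∃ a : A, φ a = rf hTn.le (ratio n (ev v U e))) :
    IsImmersion (toSpec T φ) := by
  subst hTn
  choose a ha using hr
  have ha' : ∀ e, φ (a e) = ratio n (ev v U e) := fun e => (ha e).trans (rf_self _ _)
  let h := toSpec (gloc n) φ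
  let D : Γ(E, U) → (Spec A).Opens := fun e => PrimeSpectrum.basicOpen (a e)
  let Ω : (Spec A).Opens := iSup D
  have hO : ∀ e, X.basicOpen (φ (a e)) = gloc n ⊓ gloc (ev v U e) := fun e => by rw [ha', gloc_ratio]
  have hpre : ∀ e, h ⁻¹ᵁ D e = (gloc n).ι ⁻¹ᵁ X.basicOpen (φ (a e)) := fun e => by
    change (Scheme.Opens.toSpecΓ _ ≫ Spec.map _) ⁻¹ᵁ _ = _
    rw [Scheme.Hom.comp_preimage, SpecMap_preimage_basicOpen]
    exact Scheme.Opens.toSpecΓ_preimage_basicOpen _ _
  have hpiece : ∀ e, IsImmersion ((h ⁻¹ᵁ D e).ι ≫ h) := fun e => by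
    let O := X.basicOpen (φ (a e))
    have hOT : O ≤ gloc n := X.basicOpen_le _
    have hOb : O ≤ gloc (ev v U e) := (hO e).le.trans inf_le_right
    let g := CommRingCat.ofHom (algebraMap A (Localization.Away (a e)))
    have hu : IsUnit ((X.presheaf.map (homOfLE hOT).op).hom (φ (a e))) :=
      RingedSpace.isUnit_res_basicOpen _ _
    let ψ : CommRingCat.of (Localization.Away (a e)) ⟶ Γ(X, O) := CommRingCat.ofHom
      (IsLocalization.Away.lift (a e) (g := (X.presheaf.map (homOfLE hOT).op).hom.comp φ.hom) hu)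
    have hψ : ∀ z, ψ (algebraMap A (Localization.Away (a e)) z) = rf hOT (φ z) := fun z =>
      IsLocalization.Away.lift_eq (a e) hu z
    have hψi : IsImmersion (toSpec O ψ) := by
      refine isImmersion_toSpec ψ ?_ ((hI e).res hOb)
      rw [rats, RingHom.map_closure, Subring.closure_le]
      rintro _ ⟨_, ⟨e₁, rfl⟩, rfl⟩
      obtain ⟨w, hw⟩ := IsLocalization.Away.algebraMap_isUnit (S := Localization.Away (a e)) (a e)
      refine ⟨algebraMap A _ (a e₁) * (w⁻¹ : (Localization.Away (a e))ˣ), ?_⟩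
      have h1 : ψ ((w⁻¹ : (Localization.Away (a e))ˣ) : Localization.Away (a e)) *
          rf hOT (φ (a e)) = 1 := by
        rw [← hψ, ← map_mul, ← hw, Units.inv_mul, map_one]
      have h2 := ratio_mul (m := n) (m' := ev v U e) (n := ev v U e₁) hOT hOb
      rw [map_mul, hψ]
      change _ = rf hOb (ratio (ev v U e) (ev v U e₁))
      calc rf hOT (φ (a e₁)) * ψ _ = rf hOT (ratio n (ev v U e₁)) * ψ _ := by rw [ha']
        _ = rf hOb (ratio (ev v U e) (ev v U e₁)) * (ψ _ * rf hOT (φ (a e))) := by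
            rw [← h2, ha' e]; ring
        _ = _ := by rw [h1, mul_one]
    have hb : toSpec O ψ ≫ Spec.map g = X.homOfLE hOT ≫ h := by
      rw [toSpec_comp, ← toSpec_res hOT φ]
      congr 1
      ext z
      exact hψ z
    have h3 : IsImmersion (X.homOfLE hOT ≫ h) := by
      have : IsOpenImmersion (Spec.map g) := IsOpenImmersion.of_isLocalization (a e)
      rw [← hb]
      infer_instance
    have hrange : Set.range (h ⁻¹ᵁ D e).ι = Set.range (X.homOfLE hOT) := by
      rw [Scheme.Opens.range_ι, hpre e]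
      ext z
      constructor
      · intro hz
        exact ⟨⟨z.1, hz⟩, Subtype.ext (by rw [Scheme.homOfLE_apply])⟩
      · rintro ⟨w, rfl⟩
        change ((X.homOfLE hOT) w).1 ∈ O
        rw [Scheme.homOfLE_apply]
        exact w.2
    have h4 := (IsOpenImmersion.isoOfRangeEq_hom_fac _ _ hrange).symm
    rw [h4, Category.assoc]
    infer_instance
  let k : (gloc n : Scheme.{u}) ⟶ (Ω : Scheme.{u}) := IsOpenImmersion.lift Ω.ι h (by
    rw [Scheme.Opens.range_ι]
    rintro _ ⟨x, rfl⟩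
    obtain ⟨e, he⟩ := hcov x.1 x.2
    refine Opens.mem_iSup.2 ⟨e, ?_⟩
    change x ∈ h ⁻¹ᵁ D e
    rw [hpre, hO]
    exact ⟨x.2, he⟩)
  have hk : k ≫ Ω.ι = h := IsOpenImmersion.lift_fac _ _ _
  have hk' : IsImmersion k := by
    refine IsZariskiLocalAtTarget.of_iSup_eq_top (P := @IsImmersion) (fun e => Ω.ι ⁻¹ᵁ D e) ?_ fun e => ?_
    · rw [← Scheme.Hom.preimage_iSup]
      exact top_le_iff.1 fun x _ => x.2
    · have hP : IsImmersion ((h ⁻¹ᵁ D e).ι ≫ h) := hpiece e
      have key : ∀ (V : (gloc n : Scheme.{u}).Opens), V = h ⁻¹ᵁ D e → IsImmersion (V.ι ≫ k ≫ Ω.ι) := by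
        rintro V rfl
        rw [hk]
        exact hP
      have := key (k ⁻¹ᵁ (Ω.ι ⁻¹ᵁ D e)) (by rw [← Scheme.Hom.comp_preimage, hk])
      rw [← morphismRestrict_ι_assoc] at this
      exact @IsImmersion.of_comp _ _ _ (k ∣_ (Ω.ι ⁻¹ᵁ D e)) ((Ω.ι ⁻¹ᵁ D e).ι ≫ Ω.ι) this
  change IsImmersion h
  rw [← hk]
  infer_instance

end Groth.Agent.Lib.VADesc65
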