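import Groth.Agent.Lib.VADesc65.Pn
import Groth.Agent.Lib.VADesc65.Descent
import Groth.Agent.Lib.DescAlg.Descends
import Groth.Agent.S12481

/-!
# Faithfully flat descent of relative very ampleness
-/

noncomputable section

set_option autoImplicit false
set_option backward.isDefEq.respectTransparency false
universe u

open CategoryTheory CategoryTheory.Limits AlgebraicGeometry TopologicalSpace

namespace Groth.Agent.Lib.VADesc65

open Groth.Agent.Lib SymAlg.PE

variable {X Y X' Y' : Scheme.{u}}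

theorem isInvertible_restrict {L : X.Modules} (hL : PicF.IsInvertible L) (O : X.Opens) :
    PicF.IsInvertible (L.restrict O.ι) :=
  TensorMod.Invertible.isInvertible_of_iso ((Scheme.Modules.restrictFunctorIsoPullback _).app L).symm
    (PicLoc.isInvertible_pullback O.ι hL)

/-- Gluing very ampleness. -/
theorem isRelVeryAmple_of_locally {f : X ⟶ Y} [QuasiCompact f] {L : X.Modules} (hL : PicF.IsInvertible L)
    (h : ∀ y : Y, ∃ U : Y.Opens, y ∈ U ∧ RelAmple.IsRelVeryAmplePn (f ∣_ U) (L.restrict (f ⁻¹ᵁ U).ι)) :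
    RelProj.IsRelVeryAmple f L := by
  choose U hyU hU using h
  exact isRelVeryAmple_of_local hL fun y => ⟨U y, hyU y, by
    haveI : QuasiCompact (f ∣_ U y) :=
      MorphismProperty.of_isPullback (isPullback_morphismRestrict f (U y)).flip ‹QuasiCompact f›
    exact isRelVeryAmple_of_pn (isInvertible_restrict hL _) (hU y)⟩

/-- A quasi-compact scheme receives a surjective local isomorphism from an affine scheme. -/
theorem exists_affine_cover (Z : Scheme.{u}) [CompactSpace Z] :
    ∃ (W : Scheme.{u}) (p : W ⟶ Z), IsAffine W ∧ Flat p ∧ Surjective p := by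
  let 𝒰 := Z.affineCover.finiteSubcover
  refine ⟨∐ 𝒰.X, Sigma.desc 𝒰.f, inferInstance, inferInstance, ⟨fun z => ?_⟩⟩
  obtain ⟨i, x, rfl⟩ := 𝒰.exists_eq z
  exact ⟨Sigma.ι 𝒰.X i x, by rw [← Scheme.Hom.comp_apply, Sigma.ι_desc]⟩

theorem locally_of_baseChange {f : X ⟶ Y} {g : Y' ⟶ Y} {g' : X' ⟶ X} {f' : X' ⟶ Y'}
    (hsq : IsPullback g' f' f g) [LocallyOfFiniteType f] [QuasiCompact f] [Surjective g] [Flat g]
    [QuasiCompact g] {L : X.Modules} (hL : PicF.IsInvertible L)
    (h : ∀ y' : Y', ∃ U' : Y'.Opens, y' ∈ U' ∧ RelAmple.IsRelVeryAmplePn (f' ∣_ U')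
      (((Scheme.Modules.pullback g').obj L).restrict (f' ⁻¹ᵁ U').ι)) (y : Y) :
    ∃ U : Y.Opens, y ∈ U ∧ RelAmple.IsRelVeryAmplePn (f ∣_ U) (L.restrict (f ⁻¹ᵁ U).ι) := by
  obtain ⟨U, hU, hyU, -⟩ := exists_isAffineOpen_mem_and_subset (x := y) (U := ⊤) trivial
  refine ⟨U, hyU, ?_⟩
  haveI : IsAffine (U : Scheme.{u}) := hU
  have hQf' : QuasiCompact f' := MorphismProperty.of_isPullback (P := @QuasiCompact) hsq inferInstance
  have : IsSeparated f :=
    MorphismProperty.of_isPullback_of_descendsAlong (P := @IsSeparated)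
      (Q := (@Surjective ⊓ @Flat ⊓ @QuasiCompact : MorphismProperty Scheme.{u}))
      hsq.flip ⟨⟨inferInstance, inferInstance⟩, inferInstance⟩
      (isSeparated_of_isRelVeryAmple (isRelVeryAmple_of_locally (PicLoc.isInvertible_pullback g' hL) h))
  haveI : QuasiCompact (f ∣_ U) :=
    MorphismProperty.of_isPullback (isPullback_morphismRestrict f U).flip ‹QuasiCompact f›
  haveI : IsSeparated (f ∣_ U) :=
    MorphismProperty.of_isPullback (isPullback_morphismRestrict f U).flip ‹IsSeparated f›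
  haveI : Surjective (g ∣_ U) :=
    MorphismProperty.of_isPullback (isPullback_morphismRestrict g U).flip ‹Surjective g›
  haveI : Flat (g ∣_ U) :=
    MorphismProperty.of_isPullback (isPullback_morphismRestrict g U).flip ‹Flat g›
  haveI : CompactSpace (g ⁻¹ᵁ U : Scheme.{u}) :=
    isCompact_iff_compactSpace.1 (g.isCompact_preimage hU.isCompact)
  obtain ⟨W, p, hW, hp, hps⟩ := exists_affine_cover (g ⁻¹ᵁ U)
  let gW : W ⟶ (U : Scheme.{u}) := p ≫ (g ∣_ U)
  have hflat : Flat gW := inferInstance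
  have hsurj : Surjective gW := inferInstance
  let LU := L.restrict (f ⁻¹ᵁ U).ι
  have hLU : PicF.IsInvertible LU := isInvertible_restrict hL _
  -- the base change to `W`
  let a := pullback.fst (f ∣_ U) gW
  let b := pullback.snd (f ∣_ U) gW
  have hsqW : IsPullback a b (f ∣_ U) gW := IsPullback.of_hasPullback _ _
  have hbig : IsPullback (a ≫ (f ⁻¹ᵁ U).ι) b f ((p ≫ (g ⁻¹ᵁ U).ι) ≫ g) := by
    have : (p ≫ (g ⁻¹ᵁ U).ι) ≫ g = gW ≫ U.ι := by simp only [gW, Category.assoc, morphismRestrict_ι]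
    rw [this]
    exact hsqW.paste_horiz (isPullback_morphismRestrict f U).flip
  let g₂ := hsq.lift (a ≫ (f ⁻¹ᵁ U).ι) (b ≫ p ≫ (g ⁻¹ᵁ U).ι) (by rw [hbig.w, Category.assoc, Category.assoc, Category.assoc])
  have hg₂ : g₂ ≫ g' = a ≫ (f ⁻¹ᵁ U).ι := hsq.lift_fst _ _ _
  have hsq₂ : IsPullback g₂ b f' (p ≫ (g ⁻¹ᵁ U).ι) :=
    IsPullback.of_right (by rw [hg₂]; exact hbig) (hsq.lift_snd _ _ _) hsq
  have hbQ : QuasiCompact b := MorphismProperty.of_isPullback (P := @QuasiCompact) hsqW inferInstance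
  have hiso : (Scheme.Modules.pullback g₂).obj ((Scheme.Modules.pullback g').obj L) ≅
      (Scheme.Modules.pullback a).obj LU :=
    (Scheme.Modules.pullbackComp g₂ g').app L ≪≫ (Scheme.Modules.pullbackCongr hg₂).app L ≪≫
      ((Scheme.Modules.pullbackComp a (f ⁻¹ᵁ U).ι).app L).symm ≪≫
        (Scheme.Modules.pullback a).mapIso ((Scheme.Modules.restrictFunctorIsoPullback _).app L).symm
  have hW' : RelProj.IsRelVeryAmple b ((Scheme.Modules.pullback a).obj LU) :=
    isRelVeryAmple_of_iso hiso (isRelVeryAmple_of_locally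
      (PicLoc.isInvertible_pullback g₂ (PicLoc.isInvertible_pullback g' hL)) (locally_baseChange hsq₂ h))
  exact isRelVeryAmplePn_of_isRelVeryAmple (f ∣_ U) LU hLU
    (isRelVeryAmple_of_crit (isQCoh_push hLU) (𝟙 _) (crit_of_faithfullyFlat hsqW hLU hW'))

end Groth.Agent.Lib.VADesc65
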