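import Groth.Agent.Lib.SymAlg.PE.Eventual
import Groth.Agent.Lib.ProjSpace.BaseChange
import Groth.Agent.Lib.QCoh.Pullback

/-!
# Base change of very ampleness into projective spaces
-/

noncomputable section

set_option autoImplicit false
set_option backward.isDefEq.respectTransparency false
universe u

open CategoryTheory CategoryTheory.Limits AlgebraicGeometry

namespace Groth.Agent.Lib.VADesc65

variable {X Y X' Y' : Scheme.{u}}

/-- An immersion into `P^n` pulls back. -/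
theorem isRelVeryAmplePn_baseChange {f : X ⟶ Y} {g : Y' ⟶ Y} {g' : X' ⟶ X} {f' : X' ⟶ Y'}
    (hsq : IsPullback g' f' f g) {M : X.Modules} (h : RelAmple.IsRelVeryAmplePn f M) :
    RelAmple.IsRelVeryAmplePn f' ((Scheme.Modules.pullback g').obj M) := by
  obtain ⟨n, i, hi, hif, ⟨φ⟩⟩ := h
  have hover := ProjSpace.BaseChange.isPullback_overMap n g
  let i' : X' ⟶ CohB1.ProjSpaceOver n Y' := hover.lift (g' ≫ i) f' (by
    rw [Category.assoc]
    exact (congrArg (g' ≫ ·) hif).trans hsq.w)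
  have h1 : i' ≫ ProjSpace.BaseChange.overMap n g = g' ≫ i := hover.lift_fst _ _ _
  have h2 : i' ≫ CohB1.ProjSpaceOver.toBase n Y' = f' := hover.lift_snd _ _ _
  have hif' : i ≫ CohB1.ProjSpaceOver.toBase n Y = f := hif
  have hsq' : IsPullback i' g' (ProjSpace.BaseChange.overMap n g) i :=
    IsPullback.of_right (h₁₁ := i') (by rw [h2, hif']; exact hsq.flip) h1 hover.flip
  have : IsImmersion i' := MorphismProperty.of_isPullback (P := @IsImmersion) hsq'.flip hi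
  refine ⟨n, i', this, h2, ⟨(Scheme.Modules.pullback g').mapIso φ ≪≫ ?_⟩⟩
  refine (Scheme.Modules.pullbackComp g' i).app _ ≪≫ (Scheme.Modules.pullbackCongr h1.symm).app _ ≪≫
    ((Scheme.Modules.pullbackComp i' (ProjSpace.BaseChange.overMap n g)).app _).symm ≪≫
    (Scheme.Modules.pullback i').mapIso ?_
  exact (Scheme.Modules.pullbackComp (ProjSpace.BaseChange.overMap n g) _).app _ ≪≫
    (Scheme.Modules.pullbackCongr (ProjSpace.BaseChange.overMap_fst n g)).app _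

/-- Very ampleness locally on the base pulls back. -/
theorem locally_baseChange {f : X ⟶ Y} {g : Y' ⟶ Y} {g' : X' ⟶ X} {f' : X' ⟶ Y'}
    (hsq : IsPullback g' f' f g) {M : X.Modules}
    (h : ∀ y : Y, ∃ U : Y.Opens, y ∈ U ∧ RelAmple.IsRelVeryAmplePn (f ∣_ U) (M.restrict (f ⁻¹ᵁ U).ι))
    (y' : Y') : ∃ U' : Y'.Opens, y' ∈ U' ∧
      RelAmple.IsRelVeryAmplePn (f' ∣_ U')
        (((Scheme.Modules.pullback g').obj M).restrict (f' ⁻¹ᵁ U').ι) := by
  obtain ⟨U, hU, hva⟩ := h (g y')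
  refine ⟨g ⁻¹ᵁ U, hU, ?_⟩
  have he : f' ⁻¹ᵁ (g ⁻¹ᵁ U) = g' ⁻¹ᵁ (f ⁻¹ᵁ U) := by
    rw [← Scheme.Hom.comp_preimage, ← hsq.w, Scheme.Hom.comp_preimage]
  let γ := g'.resLE (f ⁻¹ᵁ U) (f' ⁻¹ᵁ (g ⁻¹ᵁ U)) he.le
  have hγ : γ ≫ (f ⁻¹ᵁ U).ι = (f' ⁻¹ᵁ (g ⁻¹ᵁ U)).ι ≫ g' := Scheme.Hom.resLE_comp_ι _ _
  have hbig : IsPullback (γ ≫ (f ⁻¹ᵁ U).ι) (f' ∣_ (g ⁻¹ᵁ U)) f ((g ∣_ U) ≫ U.ι) := by
    rw [hγ, morphismRestrict_ι]
    exact ((isPullback_morphismRestrict f' (g ⁻¹ᵁ U)).flip).paste_horiz hsq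
  have hsq' : IsPullback γ (f' ∣_ (g ⁻¹ᵁ U)) (f ∣_ U) (g ∣_ U) :=
    IsPullback.of_right hbig (by
      rw [← cancel_mono U.ι, Category.assoc, Category.assoc, morphismRestrict_ι, morphismRestrict_ι,
        morphismRestrict_ι_assoc, reassoc_of% hγ, hsq.w])
      (isPullback_morphismRestrict f U).flip
  exact ProjMor.Conv.isRelVeryAmplePn_of_iso
    ((QCoh.Pullback.restrictPullbackIso g' (f' ⁻¹ᵁ (g ⁻¹ᵁ U)).ι (f ⁻¹ᵁ U).ι γ hγ).app M).symm
    (isRelVeryAmplePn_baseChange hsq' hva)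

end Groth.Agent.Lib.VADesc65
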